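import Mathlib.CategoryTheory.Functor.KanExtension.Adjunction
import Mathlib.CategoryTheory.Limits.Indization.IndObject
import Mathlib.CategoryTheory.Limits.Types.Colimits
import Mathlib.CategoryTheory.Limits.Types.Pullbacks
import Mathlib.CategoryTheory.Adjunction.FullyFaithful
import Mathlib.CategoryTheory.Comma.Over.Basic
import Mathlib.CategoryTheory.Limits.Shapes.Pullback.IsPullback.Basic

/-!
Left Kan extension of presheaves of sets along a functor of small categories.
-/

set_option autoImplicit false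
set_option linter.style.haveILetI false
set_option backward.defeqAttrib.useBackward true
set_option backward.isDefEq.respectTransparency false

universe u

open CategoryTheory CategoryTheory.Limits Opposite

namespace Groth.Agent.LanPresheaf

variable {C D : Type u} [SmallCategory C] [SmallCategory D] (u₀ : C ⥤ D)

/-- Left Kan extension of presheaves of sets. -/
noncomputable abbrev shriek : (Cᵒᵖ ⥤ Type u) ⥤ (Dᵒᵖ ⥤ Type u) := u₀.op.lan

/-- The unit on sections. -/
noncomputable abbrev η (H : Cᵒᵖ ⥤ Type u) (Y : C) : H.obj (op Y) ⟶ ((shriek u₀).obj H).obj (op (u₀.obj Y)) :=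
  (u₀.op.lanUnit.app H).app (op Y)

theorem η_natural (H : Cᵒᵖ ⥤ Type u) {Y Y' : C} (m : Y' ⟶ Y) (h : H.obj (op Y)) :
    η u₀ H Y' (H.map m.op h) = ((shriek u₀).obj H).map (u₀.map m).op (η u₀ H Y h) :=
  ConcreteCategory.congr_hom ((u₀.op.lanUnit.app H).naturality m.op) h

theorem η_map {H K : Cᵒᵖ ⥤ Type u} (α : H ⟶ K) (Y : C) (h : H.obj (op Y)) :
    ((shriek u₀).map α).app (op (u₀.obj Y)) (η u₀ H Y h) = η u₀ K Y (α.app (op Y) h) :=
  (ConcreteCategory.congr_hom (NatTrans.congr_app (u₀.op.lanUnit.naturality α) (op Y)) h).symm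

theorem exists_rep (H : Cᵒᵖ ⥤ Type u) (X' : D) (y : ((shriek u₀).obj H).obj (op X')) :
    ∃ (Y : C) (g : X' ⟶ u₀.obj Y) (h : H.obj (op Y)), y = ((shriek u₀).obj H).map g.op (η u₀ H Y h) := by
  obtain ⟨j, h, rfl⟩ := Types.jointly_surjective_of_isColimit
    ((Functor.isPointwiseLeftKanExtensionOfIsLeftKanExtension (F := H) _ (u₀.op.lanUnit.app H)) (op X')) y
  exact ⟨j.left.unop, j.hom.unop, h, rfl⟩

theorem exists_retraction [u₀.Faithful] (hu : ∀ X : C, (Over.post (X := X) u₀).Full) (H : Cᵒᵖ ⥤ Type u) (X : C) :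
    ∃ φ : ((shriek u₀).obj H).obj (op (u₀.obj X)) → Option (H.obj (op X)),
      ∀ (Y : C) (g : u₀.obj X ⟶ u₀.obj Y) (h : H.obj (op Y)) (o : Option (H.obj (op X))),
        (∀ k : X ⟶ Y, u₀.map k = g → o = some (H.map k.op h)) →
        ((¬ ∃ k : X ⟶ Y, u₀.map k = g) → o = none) →
          φ (((shriek u₀).obj H).map g.op (η u₀ H Y h)) = o := by
  classical
  let hc := (Functor.isPointwiseLeftKanExtensionOfIsLeftKanExtension (F := H) _ (u₀.op.lanUnit.app H))
    (op (u₀.obj X))
  let val : ∀ {Y : C}, (u₀.obj X ⟶ u₀.obj Y) → H.obj (op Y) → Option (H.obj (op X)) := fun {Y} g h =>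
    if hg : ∃ k : X ⟶ Y, u₀.map k = g then some (H.map hg.choose.op h) else none
  have hval : ∀ {Y : C} (g : u₀.obj X ⟶ u₀.obj Y) (h : H.obj (op Y)) (k : X ⟶ Y), u₀.map k = g →
      val g h = some (H.map k.op h) := by
    intro Y g h k hk
    have hg : ∃ k : X ⟶ Y, u₀.map k = g := ⟨k, hk⟩
    have e : hg.choose = k := u₀.map_injective (hg.choose_spec.trans hk.symm)
    simp only [val, dif_pos hg, e]
  let s : Cocone (CostructuredArrow.proj u₀.op (op (u₀.obj X)) ⋙ H) :=
    { pt := Option (H.obj (op X))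
      ι :=
        { app := fun j => ↾fun h => val (Y := j.left.unop) j.hom.unop h
          naturality := fun j j' f => by
            ext h
            show val (Y := j'.left.unop) j'.hom.unop (H.map f.left h) = val (Y := j.left.unop) j.hom.unop h
            have hw : j'.hom.unop ≫ u₀.map f.left.unop = j.hom.unop :=
              congrArg Quiver.Hom.unop (CostructuredArrow.w f)
            by_cases hg : ∃ k : X ⟶ j'.left.unop, u₀.map k = j'.hom.unop
            · obtain ⟨k, hk⟩ := hg
              rw [hval _ _ k hk, hval _ _ (k ≫ f.left.unop) (by rw [u₀.map_comp, hk, hw])]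
              simp
            · have hg' : ¬ ∃ k : X ⟶ j.left.unop, u₀.map k = j.hom.unop := by
                rintro ⟨k, hk⟩
                haveI := hu j.left.unop
                let a : (Over.post u₀).obj (Over.mk k) ⟶ (Over.post u₀).obj (Over.mk f.left.unop) :=
                  Over.homMk j'.hom.unop (hw.trans hk.symm)
                exact hg ⟨((Over.post u₀).preimage a).left, congrArg CommaMorphism.left ((Over.post u₀).map_preimage a)⟩
              simp only [val, dif_neg hg, dif_neg hg'] } }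
  refine ⟨fun y => hc.desc s y, fun Y g h o h₁ h₂ => ?_⟩
  refine (ConcreteCategory.congr_hom (hc.fac s (CostructuredArrow.mk (Y := op Y) g.op)) h).trans ?_
  show val g h = o
  by_cases hg : ∃ k : X ⟶ Y, u₀.map k = g
  · obtain ⟨k, hk⟩ := hg
    rw [hval g h k hk, h₁ k hk]
  · simp only [val, dif_neg hg, h₂ hg]

theorem η_injective [u₀.Faithful] (hu : ∀ X : C, (Over.post (X := X) u₀).Full) (H : Cᵒᵖ ⥤ Type u) (X : C) :
    Function.Injective (η u₀ H X) := by
  obtain ⟨φ, hφ⟩ := exists_retraction u₀ hu H X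
  intro a b hab
  have h : ∀ c, φ (η u₀ H X c) = some c := fun c => by
    have e := hφ X (𝟙 _) c (some c) (fun k hk => by
      obtain rfl : k = 𝟙 X := u₀.map_injective (by rw [hk, u₀.map_id])
      simp) fun hk => (hk ⟨𝟙 X, u₀.map_id X⟩).elim
    simpa using e
  exact Option.some_injective _ ((h a).symm.trans ((congrArg φ hab).trans (h b)))

theorem exists_preimage [u₀.Faithful] (hu : ∀ X : C, (Over.post (X := X) u₀).Full) {H K : Cᵒᵖ ⥤ Type u}
    (α : H ⟶ K) (X : C) (y : ((shriek u₀).obj H).obj (op (u₀.obj X))) (k : K.obj (op X))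
    (h : η u₀ K X k = ((shriek u₀).map α).app _ y) :
    ∃ x, η u₀ H X x = y ∧ α.app _ x = k := by
  obtain ⟨φ, hφ⟩ := exists_retraction u₀ hu K X
  obtain ⟨Y, g, z, rfl⟩ := exists_rep u₀ H _ y
  have hy : ((shriek u₀).map α).app (op (u₀.obj X)) (((shriek u₀).obj H).map g.op (η u₀ H Y z)) =
      ((shriek u₀).obj K).map g.op (η u₀ K Y (α.app _ z)) :=
    (ConcreteCategory.congr_hom (((shriek u₀).map α).naturality g.op) _).trans (congrArg _ (η_map u₀ α Y z))
  have hk : φ (η u₀ K X k) = some k := by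
    have e := hφ X (𝟙 _) k (some k) (fun l hl => by
      obtain rfl : l = 𝟙 X := u₀.map_injective (by rw [hl, u₀.map_id])
      simp) fun hl => (hl ⟨𝟙 X, u₀.map_id X⟩).elim
    simpa using e
  by_cases hg : ∃ l : X ⟶ Y, u₀.map l = g
  · obtain ⟨l, rfl⟩ := hg
    refine ⟨H.map l.op z, η_natural u₀ H l z, η_injective u₀ hu K X ?_⟩
    rw [h, hy, ← η_natural]
    exact congrArg _ (ConcreteCategory.congr_hom (α.naturality l.op) z)
  · have := hφ Y g (α.app _ z) none (fun l hl => (hg ⟨l, hl⟩).elim) fun _ => rfl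
    rw [← hy, ← h, hk] at this
    simp at this

/-- Injectivity of the unit and the cartesian naturality squares for a functor inducing fully faithful
functors on slices. -/
theorem lan_faithful_unit_cartesian [u₀.Faithful] (hu : ∀ X : C, (Over.post (X := X) u₀).Full) :
    (shriek u₀).Faithful ∧ (∀ H : Cᵒᵖ ⥤ Type u, Mono ((u₀.op.lanAdjunction (Type u)).unit.app H)) ∧
    ∀ (H K : Cᵒᵖ ⥤ Type u) (α : H ⟶ K),
      IsPullback ((u₀.op.lanAdjunction (Type u)).unit.app H) α
        (((Functor.whiskeringLeft Cᵒᵖ Dᵒᵖ (Type u)).obj u₀.op).map ((shriek u₀).map α))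
        ((u₀.op.lanAdjunction (Type u)).unit.app K) := by
  have hm : ∀ H : Cᵒᵖ ⥤ Type u, Mono ((u₀.op.lanAdjunction (Type u)).unit.app H) := fun H => by
    rw [Functor.lanAdjunction_unit]
    haveI : ∀ V, Mono ((u₀.op.lanUnit.app H).app V) := fun V =>
      (mono_iff_injective _).2 (η_injective u₀ hu H V.unop)
    exact NatTrans.mono_of_mono_app _
  refine ⟨?_, hm, fun H K α => ?_⟩
  · haveI := hm
    exact (u₀.op.lanAdjunction (Type u)).faithful_L_of_mono_unit_app
  · rw [Functor.lanAdjunction_unit]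
    refine IsPullback.of_forall_isPullback_app fun V => ?_
    rw [Types.isPullback_iff]
    refine ⟨?_, fun x y hxy => η_injective u₀ hu H V.unop hxy.1, fun y k hyk => ?_⟩
    · ext x
      exact η_map u₀ α V.unop x
    · obtain ⟨x, hx, hxk⟩ := exists_preimage u₀ hu α V.unop y k hyk.symm
      exact ⟨x, hx, hxk⟩

section Ind

theorem existsUnique_rep_yoneda (Y : C) (X' : D) (y : ((shriek u₀).obj (yoneda.obj Y)).obj (op X')) :
    ∃! g : X' ⟶ u₀.obj Y, ((shriek u₀).obj (yoneda.obj Y)).map g.op (η u₀ (yoneda.obj Y) Y (𝟙 Y)) = y := by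
  let adj := u₀.op.lanAdjunction (Type u)
  let β : yoneda.obj Y ⟶ u₀.op ⋙ yoneda.obj (u₀.obj Y) :=
    { app := fun V => ↾fun m => u₀.map m
      naturality := fun V W f => by ext m; simp }
  let θ : (shriek u₀).obj (yoneda.obj Y) ⟶ yoneda.obj (u₀.obj Y) := (adj.homEquiv _ _).symm β
  have hθ : ∀ g : X' ⟶ u₀.obj Y,
      θ.app (op X') (((shriek u₀).obj (yoneda.obj Y)).map g.op (η u₀ (yoneda.obj Y) Y (𝟙 Y))) = g := by
    intro g
    have e : adj.homEquiv _ _ θ = β := Equiv.apply_symm_apply _ _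
    rw [Adjunction.homEquiv_unit, Functor.lanAdjunction_unit] at e
    have e1 := ConcreteCategory.congr_hom (NatTrans.congr_app e (op Y)) (𝟙 Y)
    refine (ConcreteCategory.congr_hom (θ.naturality g.op) _).trans ?_
    refine (congrArg (fun t => (yoneda.obj (u₀.obj Y)).map g.op t) e1).trans ?_
    show g ≫ u₀.map (𝟙 Y) = g
    simp
  obtain ⟨Z, g, h, rfl⟩ := exists_rep u₀ _ _ y
  refine ⟨g ≫ u₀.map h, ?_, fun g' hg' => ?_⟩
  · show ((shriek u₀).obj (yoneda.obj Y)).map (g ≫ u₀.map h).op _ = _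
    rw [op_comp, Functor.map_comp_apply, ← η_natural]
    simp
  · rw [← hθ g', hg', show h = (yoneda.obj Y).map h.op (𝟙 Y) by simp, η_natural, ← Functor.map_comp_apply,
      ← op_comp, hθ]
    simp

theorem hom_ext_rep {Y : C} {G' : Dᵒᵖ ⥤ Type u} (φ ψ : (shriek u₀).obj (yoneda.obj Y) ⟶ G')
    (h : φ.app _ (η u₀ (yoneda.obj Y) Y (𝟙 Y)) = ψ.app _ (η u₀ (yoneda.obj Y) Y (𝟙 Y))) : φ = ψ := by
  refine NatTrans.ext (funext fun V => ?_)
  ext y
  obtain ⟨g, rfl, -⟩ := existsUnique_rep_yoneda u₀ Y V.unop y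
  exact (ConcreteCategory.congr_hom (φ.naturality g.op) _).trans ((congrArg _ h).trans
    (ConcreteCategory.congr_hom (ψ.naturality g.op) _).symm)

theorem isIndObject_restrict [u₀.Full] [u₀.Faithful]
    (hret : ∀ X' : D, ∃ (X : C) (i : X' ⟶ u₀.obj X) (r : u₀.obj X ⟶ X'), i ≫ r = 𝟙 X')
    {G' : Dᵒᵖ ⥤ Type u} (hG : IsIndObject G') : IsIndObject (u₀.op ⋙ G') := by
  rw [isIndObject_iff]
  refine ⟨?_, FinallySmall.mk' (𝟭 (CostructuredArrow yoneda (u₀.op ⋙ G')))⟩
  haveI := hG.isFiltered
  have mkHom : ∀ {j : CostructuredArrow yoneda (u₀.op ⋙ G')} {Z : C} (k : j.left ⟶ Z) (d : G'.obj (op (u₀.obj Z))),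
      G'.map (u₀.map k).op d = yonedaEquiv j.hom →
        yoneda.map k ≫ yonedaEquiv.symm (show (u₀.op ⋙ G').obj (op Z) from d) = j.hom := by
    intro j Z k d h
    apply yonedaEquiv.injective
    rw [← yonedaEquiv_naturality, Equiv.apply_symm_apply]
    exact h
  haveI : IsFilteredOrEmpty (CostructuredArrow yoneda (u₀.op ⋙ G')) := by
    refine ⟨fun a b => ?_, fun {a b} m n => ?_⟩
    · let a' : CostructuredArrow yoneda G' := CostructuredArrow.mk (yonedaEquiv.symm
        (yonedaEquiv (F := u₀.op ⋙ G') a.hom : G'.obj (op (u₀.obj a.left))))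
      let b' : CostructuredArrow yoneda G' := CostructuredArrow.mk (yonedaEquiv.symm
        (yonedaEquiv (F := u₀.op ⋙ G') b.hom : G'.obj (op (u₀.obj b.left))))
      let c := IsFiltered.max a' b'
      obtain ⟨Z, i, r, hir⟩ := hret c.left
      let d : G'.obj (op (u₀.obj Z)) := G'.map r.op (yonedaEquiv c.hom)
      have key : ∀ {W : CostructuredArrow yoneda G'} (g : W ⟶ c),
          G'.map (g.left ≫ i).op d = yonedaEquiv W.hom := fun {W} g => by
        rw [← CostructuredArrow.w g, ← yonedaEquiv_naturality, ← Functor.map_comp_apply, ← op_comp, Category.assoc,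
          hir, Category.comp_id]
      have ha := key (IsFiltered.leftToMax a' b')
      have hb := key (IsFiltered.rightToMax a' b')
      simp only [a', b', CostructuredArrow.mk_hom_eq_self, Equiv.apply_symm_apply] at ha hb
      refine ⟨CostructuredArrow.mk (yonedaEquiv.symm (show (u₀.op ⋙ G').obj (op Z) from d)),
        CostructuredArrow.homMk (u₀.preimage ((IsFiltered.leftToMax a' b').left ≫ i)) (mkHom _ d ?_),
        CostructuredArrow.homMk (u₀.preimage ((IsFiltered.rightToMax a' b').left ≫ i)) (mkHom _ d ?_), trivial⟩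
      · rw [u₀.map_preimage]; exact ha.trans (Equiv.apply_symm_apply _ _)
      · rw [u₀.map_preimage]; exact hb.trans (Equiv.apply_symm_apply _ _)
    · let a' : CostructuredArrow yoneda G' := CostructuredArrow.mk (yonedaEquiv.symm
        (yonedaEquiv (F := u₀.op ⋙ G') a.hom : G'.obj (op (u₀.obj a.left))))
      let b' : CostructuredArrow yoneda G' := CostructuredArrow.mk (yonedaEquiv.symm
        (yonedaEquiv (F := u₀.op ⋙ G') b.hom : G'.obj (op (u₀.obj b.left))))
      have lift : ∀ f : a ⟶ b, yoneda.map (u₀.map f.left) ≫ b'.hom = a'.hom := fun f => by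
        apply yonedaEquiv.injective
        rw [← yonedaEquiv_naturality]
        simp only [a', b', CostructuredArrow.mk_hom_eq_self, Equiv.apply_symm_apply]
        rw [← CostructuredArrow.w f, ← yonedaEquiv_naturality]
        rfl
      let m' : a' ⟶ b' := CostructuredArrow.homMk (u₀.map m.left) (lift m)
      let n' : a' ⟶ b' := CostructuredArrow.homMk (u₀.map n.left) (lift n)
      obtain ⟨Z, i, r, hir⟩ := hret (IsFiltered.coeq m' n').left
      let d : G'.obj (op (u₀.obj Z)) := G'.map r.op (yonedaEquiv (IsFiltered.coeq m' n').hom)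
      let q := IsFiltered.coeqHom m' n'
      refine ⟨CostructuredArrow.mk (yonedaEquiv.symm (show (u₀.op ⋙ G').obj (op Z) from d)),
        CostructuredArrow.homMk (u₀.preimage (q.left ≫ i)) (mkHom _ d ?_), ?_⟩
      · rw [u₀.map_preimage, ← Functor.map_comp_apply, ← op_comp, Category.assoc, hir, Category.comp_id,
          yonedaEquiv_naturality, CostructuredArrow.w q]
        simp [b']
      · apply CostructuredArrow.hom_ext
        apply u₀.map_injective
        have e := congrArg CommaMorphism.left (IsFiltered.coeq_condition m' n')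
        simp only [CostructuredArrow.comp_left, m', n', CostructuredArrow.homMk_left] at e
        simp only [CostructuredArrow.comp_left, CostructuredArrow.homMk_left, u₀.map_comp, u₀.map_preimage]
        rw [reassoc_of% e]
  haveI : Nonempty (CostructuredArrow yoneda (u₀.op ⋙ G')) := by
    obtain ⟨c⟩ : Nonempty (CostructuredArrow yoneda G') := IsFiltered.nonempty
    obtain ⟨Z, i, r, -⟩ := hret c.left
    exact ⟨CostructuredArrow.mk (yonedaEquiv.symm (show (u₀.op ⋙ G').obj (op Z) from G'.map r.op (yonedaEquiv c.hom)))⟩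
  exact {}

/-- When the induced functor on ind-objects is an equivalence. -/
theorem indEquivalence_iff :
    ((∀ (F G : Cᵒᵖ ⥤ Type u), IsIndObject F → IsIndObject G →
        Function.Bijective (fun φ : F ⟶ G => (shriek u₀).map φ)) ∧
      (∀ G' : Dᵒᵖ ⥤ Type u, IsIndObject G' →
        ∃ F : Cᵒᵖ ⥤ Type u, IsIndObject F ∧ Nonempty ((shriek u₀).obj F ≅ G'))) ↔
    ((u₀.Full ∧ u₀.Faithful) ∧
      ∀ X' : D, ∃ (X : C) (i : X' ⟶ u₀.obj X) (r : u₀.obj X ⟶ X'), i ≫ r = 𝟙 X') := by
  let adj := u₀.op.lanAdjunction (Type u)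
  constructor
  · rintro ⟨hb, he⟩
    refine ⟨⟨⟨fun {X Y} g => ?_⟩, ⟨fun {X Y} m m' hm => ?_⟩⟩, fun X' => ?_⟩
    · obtain ⟨ψ, hψ⟩ := (hb _ _ (isIndObject_yoneda X) (isIndObject_yoneda Y)).2
        ((adj.homEquiv _ _).symm (yonedaEquiv.symm (((shriek u₀).obj (yoneda.obj Y)).map g.op (η u₀ (yoneda.obj Y) Y (𝟙 Y)))))
      refine ⟨yonedaEquiv ψ, (existsUnique_rep_yoneda u₀ Y _ _).unique ?_ rfl⟩
      have e := congrArg yonedaEquiv (Equiv.symm_apply_eq (adj.homEquiv _ _) |>.1 hψ.symm)
      rw [Equiv.apply_symm_apply, Adjunction.homEquiv_unit, Functor.lanAdjunction_unit] at e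
      refine Eq.trans ?_ e.symm
      refine Eq.trans ?_ (η_map u₀ ψ X (𝟙 X)).symm
      rw [← η_natural]
      simp
      rfl
    · have h1 : (shriek u₀).map (yoneda.map m) = (shriek u₀).map (yoneda.map m') := hom_ext_rep u₀ _ _ (by
        rw [η_map, η_map, show (yoneda.map m).app (op X) (𝟙 X) = (yoneda.obj Y).map m.op (𝟙 Y) by simp,
          show (yoneda.map m').app (op X) (𝟙 X) = (yoneda.obj Y).map m'.op (𝟙 Y) by simp, η_natural, η_natural, hm])
      exact yoneda.map_injective ((hb _ _ (isIndObject_yoneda X) (isIndObject_yoneda Y)).1 h1)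
    · obtain ⟨F, -, ⟨e⟩⟩ := he _ (isIndObject_yoneda X')
      obtain ⟨Y, g, h, hgh⟩ := exists_rep u₀ F X' (e.inv.app (op X') (𝟙 X'))
      refine ⟨Y, g, e.hom.app (op (u₀.obj Y)) (η u₀ F Y h), ?_⟩
      have e1 := congrArg (fun t => e.hom.app (op X') t) hgh
      refine (Eq.trans ?_ (e1.symm.trans ?_))
      · exact (ConcreteCategory.congr_hom (e.hom.naturality g.op) _).symm
      · exact ConcreteCategory.congr_hom (e.inv_hom_id_app (op X')) (𝟙 X')
  · rintro ⟨⟨_, _⟩, hret⟩
    haveI : IsIso adj.unit := by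
      rw [Functor.lanAdjunction_unit]
      infer_instance
    let hff := adj.fullyFaithfulLOfIsIsoUnit
    refine ⟨fun F G _ _ => hff.map_bijective F G,
      fun G' hG' => ⟨u₀.op ⋙ G', isIndObject_restrict u₀ hret hG', ?_⟩⟩
    let ε := adj.counit.app G'
    haveI : ∀ X : C, IsIso (ε.app (op (u₀.obj X))) := fun X => by
      have e := Functor.lanUnit_app_app_lanAdjunction_counit_app_app u₀.op G' (op X)
      haveI : IsIso ((u₀.op.lanUnit.app (u₀.op ⋙ G')).app (op X)) := inferInstance
      exact IsIso.of_isIso_fac_left e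
    haveI : ∀ V, IsIso (ε.app V) := by
      rintro ⟨X'⟩
      obtain ⟨X, i, r, hir⟩ := hret X'
      refine ⟨G'.map r.op ≫ inv (ε.app (op (u₀.obj X))) ≫ ((shriek u₀).obj (u₀.op ⋙ G')).map i.op, ?_, ?_⟩
      · refine (ε.naturality_assoc r.op _).symm.trans ?_
        erw [IsIso.hom_inv_id_assoc, ← Functor.map_comp, ← op_comp, hir, op_id]
        exact CategoryTheory.Functor.map_id _ _
      · simp only [Category.assoc, NatTrans.naturality, IsIso.inv_hom_id_assoc]
        erw [← G'.map_comp, ← op_comp, hir, op_id, G'.map_id]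
        rfl
    haveI : IsIso ε := NatIso.isIso_of_isIso_app _
    exact ⟨asIso ε⟩

end Ind

end Groth.Agent.LanPresheaf
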